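import Groth.Agent.S16637
import Groth.Agent.AlgGrp.K402.RedNeut
import Groth.Agent.AGF.K492.CentFin
import Groth.Agent.AGF.K501.CentField
import Groth.Agent.S3016
import Groth.Agent.Books.AlgPtsGen
import Groth.Agent.Books.AntiAffine
import Groth.Agent.S3023
import Groth.Agent.Sga3B.AlgBc2

/-!
# The centralizer of a semisimple normal subgroup

Over an algebraically closed field: `D` a semisimple closed normal subgroup of a connected group variety `G`. There is a
smooth connected closed subgroup `C` commuting with `D` with `G = D · C` and `D ∩ C` finite (on points).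
-/

set_option autoImplicit false
universe u
open CategoryTheory MonoidalCategory CartesianMonoidalCategory MonObj GrpObj AlgebraicGeometry Limits

namespace K957.Centralizer

open Groth.Agent Groth.Agent.Books Groth.Agent.Books.AlgPts Groth.Agent.Books.AlgPtsGrp Groth.Agent.Books.AlgPtsIrred

section action

variable {S : Scheme.{u}} {D G : Over S} [GrpObj D] [GrpObj G]

/-- The conjugation action of a group on a normal subgroup. -/
theorem exists_conj (j : D ⟶ G) [IsMonHom j] [Mono j] (hn : AlgGrp.IsNormalHom j) :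
    ∃ a : AlgGrp.Action G D, ∀ (T : Over S) (g : T ⟶ G) (x : T ⟶ D),
      (lift g x ≫ a.act) ≫ j = g * (x ≫ j) * g⁻¹ := by
  obtain ⟨c, hc⟩ := hn (G ⊗ D) (fst G D) (snd G D)
  have key : ∀ (T : Over S) (g : T ⟶ G) (x : T ⟶ D), (lift g x ≫ c) ≫ j = g * (x ≫ j) * g⁻¹ := by
    intro T g x
    rw [Category.assoc, ← hc, MonObj.comp_mul, MonObj.comp_mul, GrpObj.comp_inv, lift_fst, lift_snd_assoc]
  refine ⟨⟨c, ?_, ?_⟩, key⟩
  · have h1 : η[G] ▷ D = lift (fst _ _ ≫ η[G]) (snd _ _) := by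
      apply CartesianMonoidalCategory.hom_ext <;> simp
    rw [← cancel_mono j, h1, key, leftUnitor_hom, one_eq_one, MonObj.comp_one]
    simp
  · have h1 : μ[G] ▷ D = lift (fst _ _ ≫ μ[G]) (snd _ _) := by
      apply CartesianMonoidalCategory.hom_ext <;> simp
    have h2 : (α_ G G D).hom ≫ (G ◁ c) = lift (fst _ _ ≫ fst _ _) (lift (fst _ _ ≫ snd _ _) (snd _ _) ≫ c) := by
      apply CartesianMonoidalCategory.hom_ext
      · simp
      · rw [Category.assoc, whiskerLeft_snd, lift_snd, ← Category.assoc]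
        congr 1
        apply CartesianMonoidalCategory.hom_ext
        · simp
        · simp
    have h3 : fst (G ⊗ G) D ≫ μ[G] = (fst _ _ ≫ fst _ _) * (fst _ _ ≫ snd _ _) := by
      rw [← MonObj.comp_mul]
      congr 1
      rw [Hom.mul_def]
      simp
    rw [← cancel_mono j, h1, key, ← Category.assoc (α_ G G D).hom, h2, key, key, h3]
    group

/-- The product of two commuting homomorphisms is a homomorphism. -/
theorem isMonHom_mul {C : Over S} [GrpObj C] (j : D ⟶ G) [IsMonHom j] (c : C ⟶ G) [IsMonHom c]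
    (h : ∀ (T : Over S) (x : T ⟶ D) (y : T ⟶ C), (x ≫ j) * (y ≫ c) = (y ≫ c) * (x ≫ j)) :
    IsMonHom ((fst D C ≫ j) * (snd D C ≫ c)) := by
  refine Sga3B.Pts.isMonHom_of_points _ fun T x y => ?_
  have e : ∀ z : T ⟶ D ⊗ C, z ≫ ((fst D C ≫ j) * (snd D C ≫ c)) =
      ((z ≫ fst D C) ≫ j) * ((z ≫ snd D C) ≫ c) := by
    intro z
    rw [MonObj.comp_mul, Category.assoc, Category.assoc]
  rw [e, e, e, MonObj.mul_comp x y (fst D C), MonObj.mul_comp x y (snd D C),
    MonObj.mul_comp (x ≫ fst D C) (y ≫ fst D C) j, MonObj.mul_comp (x ≫ snd D C) (y ≫ snd D C) c]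
  have h1 := h T (y ≫ fst D C) (x ≫ snd D C)
  simp only [_root_.mul_assoc]
  rw [← _root_.mul_assoc ((y ≫ fst D C) ≫ j), h1]
  simp only [_root_.mul_assoc]

end action

section alg

variable {k : Type u} [Field k] [IsAlgClosed k]

/-- A closed subset containing all rational points is everything. -/
theorem eq_univ_of_forall_pt {X : Over (Spec (CommRingCat.of k))} [LocallyOfFiniteType X.hom] {F : Set X.left}
    (hF : IsClosed F) (h : ∀ x : 𝟙_ (Over (Spec (CommRingCat.of k))) ⟶ X, pt x ∈ F) : F = Set.univ :=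
  Set.univ_subset_iff.1 (subset_of_forall_pt isOpen_univ.isLocallyClosed hF fun x _ => h x)

/-- A closed subset of a connected group variety whose translates by a finite set cover the rational points is
everything. -/
theorem eq_univ_of_translates (G : Over (Spec (CommRingCat.of k))) [GrpObj G] [LocallyOfFiniteType G.hom]
    [QuasiCompact G.hom] [ConnectedSpace G.left] {F : Set G.left} (hF : IsClosed F)
    {A : Set (𝟙_ (Over (Spec (CommRingCat.of k))) ⟶ G)} (hA : A.Finite)
    (h : ∀ g : 𝟙_ (Over (Spec (CommRingCat.of k))) ⟶ G, ∃ a ∈ A, pt (a⁻¹ * g) ∈ F) : F = Set.univ := by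
  classical
  have hirr := irreducibleSpace_of_connectedSpace G
  let W : (𝟙_ (Over (Spec (CommRingCat.of k))) ⟶ G) → Set G.left := fun a =>
    (AlgPtsGen.lmul a⁻¹).left ⁻¹' F
  have hW : ∀ a, IsClosed (W a) := fun a => hF.preimage (AlgPtsGen.lmul a⁻¹).left.continuous
  have hmem : ∀ a g, pt g ∈ W a ↔ pt (a⁻¹ * g) ∈ F := by
    intro a g
    change (AlgPtsGen.lmul a⁻¹).left (pt g) ∈ F ↔ _
    rw [← pt_comp, AlgPtsGen.comp_lmul]
  have hcov : (⋃ a ∈ A, W a) = Set.univ := by
    refine eq_univ_of_forall_pt (hA.isClosed_biUnion fun a _ => hW a) fun g => ?_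
    obtain ⟨a, ha, hg⟩ := h g
    exact Set.mem_biUnion ha ((hmem a g).2 hg)
  obtain ⟨W', hW', hsub⟩ := isIrreducible_iff_sUnion_isClosed.1 ((irreducibleSpace_def _).1 hirr)
    (hA.toFinset.image W) (fun w hw => by
      obtain ⟨a, -, rfl⟩ := Finset.mem_image.1 hw
      exact hW a) (by
      intro x _
      obtain ⟨a, ha, hxa⟩ := Set.mem_iUnion₂.1 (hcov.symm ▸ Set.mem_univ x : x ∈ ⋃ a ∈ A, W a)
      exact ⟨W a, by simpa using ⟨a, ha, rfl⟩, hxa⟩)
  obtain ⟨a, -, rfl⟩ := Finset.mem_image.1 hW'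
  refine eq_univ_of_forall_pt hF fun f => ?_
  have h1 := (hmem a (a * f)).1 (hsub (Set.mem_univ _))
  rwa [inv_mul_cancel_left] at h1

/-- The neutral component has finite index on points. -/
theorem exists_finite_translates {Z C : Over (Spec (CommRingCat.of k))} [GrpObj Z] [GrpObj C]
    [LocallyOfFiniteType Z.hom] [QuasiCompact Z.hom] [LocallyOfFiniteType C.hom] (u : C ⟶ Z) [IsMonHom u]
    (hu : Set.range u.left = connectedComponent (pt η[Z])) :
    ∃ A : Set (𝟙_ (Over (Spec (CommRingCat.of k))) ⟶ Z), A.Finite ∧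
      ∀ w : 𝟙_ (Over (Spec (CommRingCat.of k))) ⟶ Z, ∃ a ∈ A, ∃ y : 𝟙_ (Over (Spec (CommRingCat.of k))) ⟶ C,
        w = a * (y ≫ u) := by
  have hopen : IsOpen (Set.range u.left) := by
    obtain ⟨N0, _, i0, _, hcl0, hfl0, hr0⟩ := S3023.result k Z
    have h1 : IsLocallyNoetherian Z.left := LocallyOfFiniteType.isLocallyNoetherian Z.hom
    have h2 : LocallyOfFinitePresentation i0.left := inferInstance
    rw [hu]
    have h4 : Set.range i0.left = connectedComponent (pt η[Z]) := hr0 (IsLocalRing.closedPoint k)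
    rw [← h4]
    exact i0.left.isOpenMap.isOpen_range
  have hcomp : CompactSpace Z.left := QuasiCompact.compactSpace_of_compactSpace Z.hom
  let W : (𝟙_ (Over (Spec (CommRingCat.of k))) ⟶ Z) → Set Z.left := fun a =>
    (AlgPtsGen.lmul a⁻¹).left ⁻¹' Set.range u.left
  have hW : ∀ a, IsOpen (W a) := fun a => hopen.preimage (AlgPtsGen.lmul a⁻¹).left.continuous
  have hmem : ∀ a g, pt g ∈ W a ↔ pt (a⁻¹ * g) ∈ Set.range u.left := by
    intro a g
    change (AlgPtsGen.lmul a⁻¹).left (pt g) ∈ Set.range u.left ↔ _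
    rw [← pt_comp, AlgPtsGen.comp_lmul]
  have hcov : (⋃ a, W a) = Set.univ := by
    by_contra hne
    obtain ⟨x, hx⟩ := (Set.ne_univ_iff_exists_notMem _).1 hne
    obtain ⟨g, hg⟩ := exists_pt_mem (X := Z) (U := (⋃ a, W a)ᶜ) ⟨x, hx⟩
      (isOpen_iUnion hW).isClosed_compl.isLocallyClosed
    refine hg (Set.mem_iUnion.2 ⟨g, (hmem g g).2 ?_⟩)
    rw [inv_mul_cancel, ← one_eq_one, ← IsMonHom.one_hom u, pt_comp]
    exact ⟨_, rfl⟩
  obtain ⟨t, ht⟩ := isCompact_univ.elim_finite_subcover W hW (hcov ▸ subset_rfl)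
  refine ⟨(t : Set _), t.finite_toSet, fun w => ?_⟩
  obtain ⟨a, ha, hwa⟩ := Set.mem_iUnion₂.1 (ht (Set.mem_univ (pt w)))
  obtain ⟨y, hy⟩ := exists_comp_eq_of_pt_mem_range u (a⁻¹ * w) ((hmem a w).1 hwa)
  exact ⟨a, ha, y, by rw [hy, mul_inv_cancel_left]⟩

/-- **The centralizer of a semisimple normal subgroup** (S1 of the plan for S14753). -/
theorem exists_centralizer
    (D G : Over (Spec (CommRingCat.of k))) [GrpObj D] [GrpObj G]
    (hD : Red.IsSemisimpleOver k D)
    [Smooth G.hom] [QuasiCompact G.hom] [ConnectedSpace ↥G.left]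
    (j : D ⟶ G) [IsMonHom j] [IsClosedImmersion j.left] (hn : AlgGrp.IsNormalHom j) :
    ∃ (C : Over (Spec (CommRingCat.of k))) (_ : GrpObj C) (c : C ⟶ G), IsMonHom c ∧ IsClosedImmersion c.left ∧
      Smooth C.hom ∧ ConnectedSpace ↥C.left ∧
      (∀ (T : Over (Spec (CommRingCat.of k))) (x : T ⟶ D) (y : T ⟶ C), (x ≫ j) * (y ≫ c) = (y ≫ c) * (x ≫ j)) ∧
      (∀ g : 𝟙_ (Over (Spec (CommRingCat.of k))) ⟶ G, ∃ (x : 𝟙_ (Over (Spec (CommRingCat.of k))) ⟶ D)
        (y : 𝟙_ (Over (Spec (CommRingCat.of k))) ⟶ C), g = (x ≫ j) * (y ≫ c)) ∧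
      {x : 𝟙_ (Over (Spec (CommRingCat.of k))) ⟶ D | ∃ y : 𝟙_ (Over (Spec (CommRingCat.of k))) ⟶ C,
        x ≫ j = y ≫ c}.Finite := by
  have hmono : Mono j := mono_of_isClosedImmersion j
  have hGlft : LocallyOfFiniteType G.hom := inferInstance
  have hGsep : IsSeparated G.hom := AntiAffine.isSeparated_hom G
  have hDaff : IsAffine D.left := hD.1.1
  have hDsm : Smooth D.hom := hD.1.2.1
  have hDconn : ConnectedSpace D.left := hD.1.2.2.1
  have hη : IsClosedImmersion (η[G] : 𝟙_ (Over (Spec (CommRingCat.of k))) ⟶ G).left := by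
    have h1 : IsClosedImmersion ((η[G] : 𝟙_ (Over (Spec (CommRingCat.of k))) ⟶ G).left ≫ G.hom) := by
      rw [Over.w]
      change IsClosedImmersion (𝟙 _)
      infer_instance
    exact IsClosedImmersion.of_comp _ G.hom
  -- the centralizer
  obtain ⟨Z, _, z, hzc, hz, -⟩ :=
    Sga3.H817.CentRepProj.exists_centralizer j (K501.CentField.locProj D.hom)
  have hzm := hz.1
  have hZlft : LocallyOfFiniteType Z.hom := by rw [← Over.w z]; infer_instance
  have hZqc : QuasiCompact Z.hom := by rw [← Over.w z]; infer_instance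
  obtain ⟨C, _, u, hu1, hu2, hu3, hu4, hu5⟩ := K402.RedNeut.exists_redNeut Z
  have hucl : IsClosedImmersion (u ≫ z).left := by rw [Over.comp_left]; infer_instance
  have hcomm : ∀ (T : Over (Spec (CommRingCat.of k))) (x : T ⟶ D) (w : T ⟶ Z),
      (x ≫ j) * (w ≫ z) = (w ≫ z) * (x ≫ j) := by
    intro T x w
    have h1 := (hz.2.2 T (w ≫ z)).1 ⟨w, rfl⟩ T (𝟙 T) x
    rw [Category.id_comp] at h1
    exact h1.symm
  have hcomm' : ∀ (T : Over (Spec (CommRingCat.of k))) (x : T ⟶ D) (y : T ⟶ C),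
      (x ≫ j) * (y ≫ u ≫ z) = (y ≫ u ≫ z) * (x ≫ j) := by
    intro T x y
    have := hcomm T x (y ≫ u)
    rwa [Category.assoc] at this
  -- every rational point is a product of a point of `D` and a point of `Z`
  obtain ⟨a, ha⟩ := exists_conj j hn
  have hred : Red.IsReductive D := Sga3B.AlgBc.isReductive_iff.2 hD.1
  have hfib : RedSub.HasConnectedFibres G := by
    intro s
    have h1 : (G.hom ⁻¹' {s} : Set G.left) = Set.univ := Set.eq_univ_of_forall fun x =>
      Subsingleton.elim (α := Spec (CommRingCat.of k)) _ _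
    change _root_.IsConnected (G.hom ⁻¹' {s} : Set G.left)
    rw [h1]
    exact isConnected_univ
  have hdec : ∀ g : 𝟙_ (Over (Spec (CommRingCat.of k))) ⟶ G, ∃ (x : 𝟙_ (Over (Spec (CommRingCat.of k))) ⟶ D)
      (w : 𝟙_ (Over (Spec (CommRingCat.of k))) ⟶ Z), g = (x ≫ j) * (w ≫ z) := by
    intro g
    obtain ⟨X', c, d, hc1, hc2, hc3, h⟩ := S16637.result hred hfib a (fun X h y y' => by
      rw [← cancel_mono j, ha, MonObj.mul_comp, MonObj.mul_comp, ha, ha]
      group) (𝟙_ _) g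
    have hX' : LocallyOfFiniteType X'.hom := by
      rw [← Over.w c]
      have : LocallyOfFiniteType (𝟙_ (Over (Spec (CommRingCat.of k)))).hom :=
        inferInstanceAs (LocallyOfFiniteType (𝟙 _))
      infer_instance
    obtain ⟨x0, hx0⟩ := hc2.surj (IsLocalRing.closedPoint k)
    obtain ⟨x, -⟩ := exists_pt_mem (X := X') (U := Set.univ) ⟨x0, trivial⟩ isOpen_univ.isLocallyClosed
    have hxc : x ≫ c = 𝟙 _ := toUnit_unique _ _
    have key : ∀ (T : Over (Spec (CommRingCat.of k))) (y : T ⟶ D),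
        (toUnit T ≫ g) * (y ≫ j) * (toUnit T ≫ g)⁻¹ =
          (toUnit T ≫ x ≫ d ≫ j) * (y ≫ j) * (toUnit T ≫ x ≫ d ≫ j)⁻¹ := by
      intro T y
      have h1 := congrArg (fun t => t ≫ j) (h T (toUnit T ≫ x) y)
      beta_reduce at h1
      rw [MonObj.mul_comp, MonObj.mul_comp, GrpObj.inv_comp, ha] at h1
      have e1 : (toUnit T ≫ x) ≫ c ≫ g = toUnit T ≫ g := by
        rw [Category.assoc, reassoc_of% hxc]
      rw [e1] at h1
      simpa only [Category.assoc] using h1
    obtain ⟨w, hw⟩ := (hz.2.2 _ ((x ≫ d ≫ j)⁻¹ * g)).2 (fun T t y => by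
      have ht : t = toUnit T := toUnit_unique _ _
      subst ht
      have h1 := key T y
      rw [MonObj.comp_mul, GrpObj.comp_inv]
      rw [mul_inv_eq_iff_eq_mul] at h1
      rw [_root_.mul_assoc, h1]
      group)
    exact ⟨x ≫ d, w, by rw [hw, Category.assoc, mul_inv_cancel_left]⟩
  -- the product of `D` and `C`
  obtain ⟨A, hA, hA'⟩ := exists_finite_translates u hu5
  have hCqc : QuasiCompact C.hom := by rw [← Over.w u]; infer_instance
  have hm := isMonHom_mul j (u ≫ z) hcomm'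
  have hprod1 : LocallyOfFiniteType (D ⊗ C).hom := by
    rw [Over.tensorObj_hom]; infer_instance
  have hprod2 : QuasiCompact (D ⊗ C).hom := by
    rw [Over.tensorObj_hom]; infer_instance
  have hqc : QuasiCompact ((fst D C ≫ j) * (snd D C ≫ u ≫ z)).left := by
    have : QuasiCompact (((fst D C ≫ j) * (snd D C ≫ u ≫ z)).left ≫ G.hom) := by rw [Over.w]; infer_instance
    exact QuasiCompact.of_comp _ G.hom
  have hcl : IsClosed (Set.range ((fst D C ≫ j) * (snd D C ≫ u ≫ z)).left) :=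
    (S3016.result k (D ⊗ C) G ((fst D C ≫ j) * (snd D C ≫ u ≫ z))).1
  have huniv : Set.range ((fst D C ≫ j) * (snd D C ≫ u ≫ z)).left = Set.univ := by
    refine eq_univ_of_translates G hcl (A := (fun a => a ≫ z) '' A) (hA.image _) fun g => ?_
    obtain ⟨x, w, rfl⟩ := hdec g
    obtain ⟨b, hb, y, rfl⟩ := hA' w
    refine ⟨_, ⟨b, hb, rfl⟩, ?_⟩
    have e1 : (b ≫ z)⁻¹ * ((x ≫ j) * ((b * (y ≫ u)) ≫ z)) =
        lift x y ≫ ((fst D C ≫ j) * (snd D C ≫ u ≫ z)) := by
      rw [MonObj.comp_mul, lift_fst_assoc, lift_snd_assoc, MonObj.mul_comp, Category.assoc,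
        ← _root_.mul_assoc (x ≫ j), hcomm, _root_.mul_assoc, inv_mul_cancel_left]
    rw [e1, pt_comp]
    exact ⟨_, rfl⟩
  refine ⟨C, inferInstance, u ≫ z, inferInstance, hucl, hu3, hu4, hcomm', fun g => ?_, ?_⟩
  · obtain ⟨t, ht⟩ := exists_comp_eq_of_pt_mem_range ((fst D C ≫ j) * (snd D C ≫ u ≫ z)) g
      (by rw [huniv]; trivial)
    exact ⟨t ≫ fst D C, t ≫ snd D C, by rw [← ht, MonObj.comp_mul, Category.assoc, Category.assoc]⟩
  · -- finiteness of the intersection
    obtain ⟨Z', _, z', hz'c, hz'⟩ := K501.CentField.exists_centralizer D (𝟙 D)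
    have hZ'lft : LocallyOfFiniteType Z'.hom := by rw [← Over.w z']; infer_instance
    have hfin : Finite Z'.left := (K492.CentFin.isSemisimpleOver_iff hD.1 z' hz').1 hD
    have hfin' : Finite (𝟙_ (Over (Spec (CommRingCat.of k))) ⟶ Z') := K492.Isog.finite_pts Z'
    refine (Set.finite_range (fun t : 𝟙_ (Over (Spec (CommRingCat.of k))) ⟶ Z' => t ≫ z')).subset ?_
    rintro x ⟨y, hy⟩
    refine (hz'.2.2 _ x).2 fun T t h => ?_
    rw [Category.comp_id, ← cancel_mono j, MonObj.mul_comp, MonObj.mul_comp, Category.assoc, hy]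
    have := hcomm' T h (t ≫ y)
    rw [Category.assoc] at this
    exact this.symm

end alg

end K957.Centralizer
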